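import Mathlib

/-!
# Differentials and separating transcendence bases
-/

open TensorProduct IntermediateField.algebraAdjoinAdjoin

namespace GrothLib.SepBasis

universe u v w

variable {k : Type u} {F : Type v} [Field k] [Field F] [Algebra k F]

/-- The differentials of a separating transcendence basis form a basis. -/
theorem exists_basis {ι : Type w} {x : ι → F} (hx : AlgebraicIndependent k x)
    (hsep : Algebra.IsSeparable (IntermediateField.adjoin k (Set.range x)) F) :
    ∃ b : Module.Basis ι F (Ω[F⁄k]), ∀ i, b i = KaehlerDifferential.D k F (x i) := by
  classical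
  let P := MvPolynomial ι k
  let B := Algebra.adjoin k (Set.range x)
  let E := IntermediateField.adjoin k (Set.range x)
  haveI : Algebra.FormallyEtale B E := .of_isLocalization (nonZeroDivisors _)
  haveI : Algebra.FormallyEtale E F := Algebra.FormallyEtale.of_isSeparable _ F
  haveI : Algebra.FormallyEtale B F := .comp B E F
  letI : Algebra P B := hx.aevalEquiv.toAlgHom.toRingHom.toAlgebra
  letI : Algebra P F := (MvPolynomial.aeval x).toRingHom.toAlgebra
  haveI : IsScalarTower P B F := .of_algebraMap_eq fun z => (hx.algebraMap_aevalEquiv z).symm
  haveI : IsScalarTower k P F := .of_algebraMap_eq fun z => ((MvPolynomial.aeval x).commutes z).symm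
  haveI : Algebra.FormallyEtale P B :=
    .of_equiv ({ hx.aevalEquiv.toRingEquiv with commutes' := fun _ => rfl } : P ≃ₐ[P] B)
  haveI : Algebra.FormallyEtale P F := .comp P B F
  let bb := Module.Basis.baseChange F (KaehlerDifferential.mvPolynomialBasis k ι)
  refine ⟨bb.map (KaehlerDifferential.tensorKaehlerEquivOfFormallyEtale k P F), fun i => ?_⟩
  simp only [bb, Module.Basis.map_apply, Module.Basis.baseChange_apply, KaehlerDifferential.mvPolynomialBasis_apply,
    KaehlerDifferential.tensorKaehlerEquivOfFormallyEtale_apply]
  show KaehlerDifferential.mapBaseChange k P F (1 ⊗ₜ[P] KaehlerDifferential.D k P (MvPolynomial.X i)) = _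
  rw [KaehlerDifferential.mapBaseChange_tmul, one_smul, KaehlerDifferential.map_D]
  exact congrArg _ (MvPolynomial.aeval_X x i)

/-- A finitely generated extension of a perfect field has differentials of rank the transcendence degree. -/
theorem exists_finset_basis [PerfectField k] [Algebra.EssFiniteType k F] :
    ∃ t : Finset F, IsTranscendenceBasis k ((↑) : t → F) ∧
      Algebra.IsSeparable (IntermediateField.adjoin k (t : Set F)) F :=
  exists_isTranscendenceBasis_and_isSeparable_of_perfectField k F

end GrothLib.SepBasis
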